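import Groth.Agent.Lib.UnifVanish7.Transfer
import Groth.Agent.Lib.FormalSys.Quot
import Groth.Agent.Lib.FormalFun.Stalk
import Groth.Agent.Lib.QCoh.Abelian
import Mathlib.CategoryTheory.Abelian.Exact

/-!
# Sections of a quotient by multiples of a finitely generated ideal
-/

set_option autoImplicit false
set_option linter.style.haveILetI false
universe u

open CategoryTheory CategoryTheory.Limits AlgebraicGeometry Opposite TopologicalSpace

noncomputable section

namespace GrothLib.FormalLim7

open GrothLib.FormalFun (toSec)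

variable {A : Type u} [CommRing A] {X : Scheme.{u}} [X.Over (Spec (CommRingCat.of A))]

theorem smulMod_app (M : X.Modules) (a : A) (V : X.Opens) (m : Γ(M, V)) :
    (Formal.smulMod A M a).app V m = toSec A V a • m :=
  Coh.smulAb_app M _ (op V) m

/-- Over an affine open the sections killed by a quotient are the multiples. -/
theorem app_eq_zero_iff_of_isQuot {r : ℕ} (a : Fin r → A) {J : Ideal A} (ha : Ideal.span (Set.range a) = J)
    {M N : X.Modules} [M.IsQuasicoherent] [N.IsQuasicoherent] {π : M ⟶ N} (hπ : FormalSys.IsQuot J π)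
    {V : X.Opens} (hV : IsAffineOpen V) (z : Γ(M, V)) :
    π.app V z = 0 ↔ ∃ y : Fin r → Γ(M, V), ∑ j, toSec A V (a j) • y j = z := by
  have haJ : ∀ j, a j ∈ J := fun j => ha ▸ Ideal.subset_span ⟨j, rfl⟩
  constructor
  swap
  · rintro ⟨y, rfl⟩
    rw [map_sum]
    refine Finset.sum_eq_zero fun j _ => ?_
    rw [← smulMod_app]
    exact congrArg (fun φ : M ⟶ N => φ.app V (y j)) (hπ.comp_eq_zero _ (haJ j))
  intro hz
  let ι' : ULift.{u} (Fin r) → X.Modules := fun _ => M
  let φ : ∐ ι' ⟶ M := Sigma.desc fun j => Formal.smulMod A M (a j.down)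
  have hφ : φ ≫ π = 0 := Sigma.hom_ext _ _ fun j => by
    rw [Sigma.ι_desc_assoc, hπ.comp_eq_zero _ (haJ j.down), comp_zero]
  have hcok : IsColimit (CokernelCofork.ofπ π hφ) := by
    haveI := hπ.epi
    refine CokernelCofork.IsColimit.ofπ' _ _ fun {P} g hg => ?_
    have hg' : ∀ b ∈ J, Formal.smulMod A M b ≫ g = 0 := by
      intro b hb
      rw [← ha] at hb
      induction hb using Submodule.span_induction with
      | mem x hx =>
        obtain ⟨j, rfl⟩ := hx
        exact ((Category.assoc _ _ _).symm.trans (congrArg (· ≫ g) (Sigma.ι_desc _ (ULift.up j)))).symm.trans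
          ((congrArg (Sigma.ι ι' (ULift.up j) ≫ ·) hg).trans comp_zero)
      | zero =>
        rw [show Formal.smulMod A M 0 = 0 from Scheme.Modules.hom_ext _ _ fun U => by
          ext m
          exact (smulMod_app M 0 U m).trans (by rw [map_zero, zero_smul]; rfl), zero_comp]
      | add x y _ _ hx hy => rw [FormalSys.smulMod_add, Preadditive.add_comp, hx, hy, add_zero]
      | smul c x _ hx => rw [smul_eq_mul, mul_comm, FormalSys.smulMod_mul, Category.assoc, hx,
          comp_zero]
    exact ⟨(hπ.exists_desc g hg').choose, (hπ.exists_desc g hg').choose_spec⟩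
  let S := ShortComplex.mk φ π hφ
  haveI : Epi (kernel.lift π φ hφ) := S.exact_iff_epi_kernel_lift.1 (S.exact_of_g_is_cokernel hcok)
  haveI : (∐ ι').IsQuasicoherent := QCoh.isQuasicoherent_colimit _ fun _ => ‹M.IsQuasicoherent›
  haveI := QCoh.isQuasicoherent_kernel π
  have hS : (ShortComplex.mk (kernel.ι π) π (kernel.condition π)).ShortExact :=
    ShortComplex.ShortExact.mk' (ShortComplex.exact_of_f_is_kernel _ (kernelIsKernel π)) inferInstance hπ.epi
  obtain ⟨w, hw⟩ := Cohom.sections_exact (QCoh.toAbFun_map_shortExact _ hS) V z hz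
  obtain ⟨t, rfl⟩ := UnifVanish7.app_surjective_of_epi' (kernel.lift π φ hφ) hV w
  haveI : HasFiniteBiproducts X.Modules := HasFiniteBiproducts.of_hasFiniteCoproducts
  refine ⟨fun j => ((biproduct.isoCoproduct ι').inv ≫ biproduct.π ι' (ULift.up j)).app V t, ?_⟩
  have hid : φ = ∑ j : ULift.{u} (Fin r),
      ((biproduct.isoCoproduct ι').inv ≫ biproduct.π ι' j) ≫ Formal.smulMod A M (a j.down) := by
    refine Sigma.hom_ext _ _ fun j => ?_
    classical
    rw [Sigma.ι_desc, Preadditive.comp_sum]
    rw [Finset.sum_eq_single j]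
    · simp [biproduct.isoCoproduct_inv]
    · intro k _ hk
      simp [biproduct.isoCoproduct_inv, biproduct.ι_π_ne_assoc _ hk.symm]
    · simp
  refine Eq.trans ?_ hw
  refine Eq.trans ?_ (congrArg (fun ψ : ∐ ι' ⟶ M => ψ.app V t) (kernel.lift_ι π φ hφ).symm)
  refine Eq.trans ?_ (congrArg (fun ψ : ∐ ι' ⟶ M => ψ.app V t) hid.symm)
  let ev : (∐ ι' ⟶ M) →+ Γ(M, V) := AddMonoidHom.mk' (fun ψ => ψ.app V t) fun _ _ => rfl
  show _ = ev (∑ j : ULift.{u} (Fin r), _)
  rw [map_sum]
  refine (Fintype.sum_equiv Equiv.ulift _ _ fun j => ?_).symm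
  exact smulMod_app M (a j.down) V _

end GrothLib.FormalLim7
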