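import Groth.Agent.Lib.FormalLim7.Milnor
import Groth.Agent.Lib.FormalLim7.Sections
import Groth.Agent.Lib.AdicLim.System
import Groth.Agent.Lib.Algz56.Sheaves
import Groth.Agent.Lib.FormalExist7.SystemAR

/-!
# The projections of the limit of a quasi-coherent formal system
-/

set_option autoImplicit false
set_option linter.style.haveILetI false
set_option linter.unusedSectionVars false
universe u

open CategoryTheory CategoryTheory.Limits AlgebraicGeometry Opposite TopologicalSpace

noncomputable section

namespace GrothLib.FormalLim7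

open GrothLib.FormalFun (toSec toStalk)

variable {A : Type u} [CommRing A] {X : Scheme.{u}} [X.Over (Spec (CommRingCat.of A))]
  {I : Ideal A} {G : ℕᵒᵖ ⥤ X.Modules}

/-- Sections over an open as an abelian group valued functor. -/
abbrev secFun (V : X.Opens) : X.Modules ⥤ AddCommGrpCat.{u} :=
  SheafOfModules.toSheaf X.ringCatSheaf ⋙ sheafToPresheaf _ _ ⋙ (evaluation _ _).obj (op V)

instance preservesLimit_secFun (V : X.Opens) : PreservesLimitsOfShape ℕᵒᵖ (secFun V) := by
  haveI h1 := preservesLimitsNatOp X.ringCatSheaf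
  haveI h2 : PreservesLimitsOfShape ℕᵒᵖ
      (sheafToPresheaf (Opens.grothendieckTopology X) AddCommGrpCat.{u} ⋙ (evaluation _ _).obj (op V)) :=
    inferInstance
  exact @comp_preservesLimitsOfShape _ _ _ _ _ _ _ _ _ _ h1 h2

theorem limit_app_ext (V : X.Opens) (x y : Γ(limit G, V))
    (h : ∀ n, (limit.π G (op n)).app V x = (limit.π G (op n)).app V y) : x = y := by
  refine Concrete.isLimit_ext _ (isLimitOfPreserves (secFun V) (limit.isLimit G)) x y ?_
  rintro ⟨n⟩
  exact h n

theorem limit_app_lift (V : X.Opens) (s : ∀ n, Γ(G.obj (op n), V))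
    (hs : ∀ n, (G.map (homOfLE (Nat.le_succ n)).op).app V (s (n + 1)) = s n) :
    ∃ x : Γ(limit G, V), ∀ n, (limit.π G (op n)).app V x = s n := by
  have hle : ∀ {m n : ℕ} (h : n ≤ m), (G.map (homOfLE h).op).app V (s m) = s n := by
    intro m n h
    induction m, h using Nat.le_induction with
    | base =>
      exact congrArg (fun φ : G.obj (op n) ⟶ G.obj (op n) => φ.app V (s n)) (G.map_id (op n))
    | succ m hm ih =>
      refine (congrArg (fun φ : G.obj (op (m + 1)) ⟶ G.obj (op n) => φ.app V (s (m + 1)))
        (show G.map (homOfLE (hm.trans (Nat.le_succ m))).op =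
          G.map (homOfLE (Nat.le_succ m)).op ≫ G.map (homOfLE hm).op from G.map_comp _ _)).trans ?_
      exact (congrArg ((G.map (homOfLE hm).op).app V) (hs m)).trans ih
  have hl := isLimitOfPreserves (secFun V ⋙ forget AddCommGrpCat.{u}) (limit.isLimit G)
  let t := (Types.isLimitEquivSections hl).symm ⟨fun n => s n.unop, fun {a b} f => hle f.unop.le⟩
  exact ⟨t, fun n => Types.isLimitEquivSections_symm_apply hl _ (op n)⟩

/-- The ground ring acting on sections. -/
abbrev secMod (M : X.Modules) (V : X.Opens) : Module A Γ(M, V) := Module.compHom _ (toSec A V)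

theorem isQuot_limit_π (hI : I.FG) (hG : Formal2.IsQCohFormal I G) (n : ℕ) :
    FormalSys.IsQuot (I ^ (n + 1)) (limit.π G (op n)) := by
  have key : ∀ (U : X.affineOpens), Function.Surjective ((limit.π G (op n)).app U.1) ∧
      ∀ m : Γ(limit G, U.1), (limit.π G (op n)).app U.1 m = 0 →
        m ∈ (I ^ (n + 1)).map (toSec A U.1) • (⊤ : Submodule Γ(X, U.1) Γ(limit G, U.1)) := by
    intro U
    let V := U.1
    letI iM : ∀ k, Module A Γ(G.obj (op k), V) := fun k => secMod (G.obj (op k)) V
    letI iL : Module A Γ(limit G, V) := secMod (limit G) V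
    let f : ∀ k, Γ(G.obj (op (k + 1)), V) →ₗ[A] Γ(G.obj (op k), V) := fun k =>
      { toFun := fun x => (G.map (homOfLE (Nat.le_succ k)).op).app V x
        map_add' := fun x y => map_add _ x y
        map_smul' := fun a x => (QCoh.appLinear (G.map (homOfLE (Nat.le_succ k)).op) V).map_smul (toSec A V a) x }
    let π : ∀ k, Γ(limit G, V) →ₗ[A] Γ(G.obj (op k), V) := fun k =>
      { toFun := fun x => (limit.π G (op k)).app V x
        map_add' := fun x y => map_add _ x y
        map_smul' := fun a x => (QCoh.appLinear (limit.π G (op k)) V).map_smul (toSec A V a) x }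
    have h : AdicLim.IsLimitSystem I f π := by
      refine ⟨fun k => surjOnAffines_of_isQCohFormal hG V U.2 k, fun k => ?_, fun k => ?_,
        fun x hx => limit_app_ext V x 0 fun k => (hx k).trans (map_zero _).symm,
        fun y hy => limit_app_lift V y hy⟩
      · obtain ⟨r, a, ha⟩ := Submodule.fg_iff_exists_fin_generating_family.1 (hI.pow (n := k + 1))
        haveI := hG.1 k
        haveI := hG.1 (k + 1)
        ext z
        rw [LinearMap.mem_ker]
        refine (app_eq_zero_iff_of_isQuot a ha (hG.2.2 k) U.2 z).trans ⟨?_, fun hz => ?_⟩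
        · rintro ⟨y, rfl⟩
          exact Submodule.sum_mem _ fun j _ =>
            Submodule.smul_mem_smul (r := a j) (ha ▸ Submodule.subset_span ⟨j, rfl⟩) trivial
        · refine Submodule.smul_induction_on hz (fun b hb w _ => ?_) ?_
          · rw [← ha] at hb
            obtain ⟨c, rfl⟩ := (Submodule.mem_span_range_iff_exists_fun A).1 hb
            refine ⟨fun j => c j • w, ?_⟩
            show ∑ j, a j • c j • w = _
            rw [Finset.sum_smul]
            exact Finset.sum_congr rfl fun j _ => by rw [smul_smul, smul_eq_mul, mul_comm]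
          · rintro p q ⟨y, hy⟩ ⟨y', hy'⟩
            refine ⟨y + y', ?_⟩
            simp only [Pi.add_apply, smul_add, Finset.sum_add_distrib, hy, hy']
      · ext x
        exact congrArg (fun φ : limit G ⟶ G.obj (op k) => φ.app V x) (limit.w G (homOfLE (Nat.le_succ k)).op)
    refine ⟨h.proj_surjective n, fun m hm => ?_⟩
    have h1 : m ∈ LinearMap.ker (π n) := hm
    rw [h.ker_eq_of_fg hI n] at h1
    refine Submodule.smul_induction_on (p := fun z => z ∈ (I ^ (n + 1)).map (toSec A V) •
      (⊤ : Submodule Γ(X, V) Γ(limit G, V))) h1 (fun b hb w _ => ?_) fun x y hx hy => add_mem hx hy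
    exact Submodule.smul_mem_smul (Ideal.mem_map_of_mem (toSec A V) hb) trivial
  haveI := hG.1 n
  haveI : Epi (limit.π G (op n)) := K0Sub.epi_of_app_surjective _ fun U => (key U).1
  exact FormalExist7.isQuot_of_stalk _ (hG.2.1 n) fun y v hv =>
    Algz56.ker_stalkLin_of_sections (limit.π G (op n)) (I ^ (n + 1)) (fun U m => (key U).2 m) y hv

end GrothLib.FormalLim7
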