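import Groth.Agent.Lib.FormalLim7.Tower
import Groth.Agent.Lib.LimCoh25.Sheaf
import Groth.Agent.Lib.Cohom.Compare
import Groth.Agent.Lib.FormalSys.Quot
import Groth.Agent.Lib.UnifVanish7.Transfer
import Groth.Prelude.Def_Formal2

/-!
# Cohomology of the limit of a quasi-coherent formal system
-/

set_option autoImplicit false
set_option linter.style.haveILetI false
universe u

open CategoryTheory CategoryTheory.Limits AlgebraicGeometry Opposite TopologicalSpace Abelian

noncomputable section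

namespace GrothLib.FormalLim7

variable {X : Scheme.{u}}

instance preservesLimitsNatOp (R : Sheaf (Opens.grothendieckTopology X) RingCat.{u}) :
    PreservesLimitsOfShape ℕᵒᵖ (SheafOfModules.toSheaf.{u} R) := by
  haveI : PreservesLimitsOfShape ℕᵒᵖ (PresheafOfModules.toPresheaf.{u} R.obj) := inferInstance
  haveI : PreservesLimitsOfShape ℕᵒᵖ (SheafOfModules.toSheaf.{u} R ⋙ sheafToPresheaf _ _) :=
    show PreservesLimitsOfShape ℕᵒᵖ (SheafOfModules.forget.{u} R ⋙ PresheafOfModules.toPresheaf R.obj) from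
      inferInstance
  exact preservesLimitsOfShape_of_reflects_of_preserves _ (sheafToPresheaf _ _)

/-- The underlying tower of abelian sheaves. -/
abbrev abSys (G : ℕᵒᵖ ⥤ X.Modules) : ℕᵒᵖ ⥤ CohTop.Ab X.toTopCat :=
  G ⋙ SheafOfModules.toSheaf X.ringCatSheaf

/-- The underlying abelian sheaf of a limit is the limit. -/
def limAbIso (G : ℕᵒᵖ ⥤ X.Modules) : Coh.toAb (limit G) ≅ limit (abSys G) :=
  preservesLimitIso (SheafOfModules.toSheaf X.ringCatSheaf) G

/-- The projections of the underlying sheaves. -/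
def limπ (G : ℕᵒᵖ ⥤ X.Modules) (n : ℕ) : Coh.toAb (limit G) ⟶ (abSys G).obj (op n) :=
  (SheafOfModules.toSheaf X.ringCatSheaf).map (limit.π G (op n))

theorem limAbIso_π (G : ℕᵒᵖ ⥤ X.Modules) (n : ℕ) :
    (limAbIso G).hom ≫ limit.π (abSys G) (op n) = limπ G n :=
  preservesLimitIso_hom_π (SheafOfModules.toSheaf X.ringCatSheaf) G (op n)

/-- The transition maps are surjective over affine opens. -/
def SurjOnAffines (G : ℕᵒᵖ ⥤ X.Modules) : Prop :=
  ∀ (V : X.Opens), IsAffineOpen V → ∀ n : ℕ,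
    Function.Surjective ((G.map (homOfLE (Nat.le_succ n)).op).app V)

theorem surjOnAffines_of_epi {G : ℕᵒᵖ ⥤ X.Modules} (hqc : ∀ n, (G.obj (op n)).IsQuasicoherent)
    (he : ∀ n, Epi (G.map (homOfLE (Nat.le_succ n)).op)) : SurjOnAffines G := fun _ hV n =>
  haveI := hqc n
  haveI := hqc (n + 1)
  haveI := he n
  UnifVanish7.app_surjective_of_epi' _ hV

theorem surjOnAffines_of_isQCohFormal {A : Type u} [CommRing A] [X.Over (Spec (CommRingCat.of A))] {I : Ideal A}
    {G : ℕᵒᵖ ⥤ X.Modules} (hG : Formal2.IsQCohFormal I G) : SurjOnAffines G :=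
  surjOnAffines_of_epi hG.1 fun n => FormalSys.IsQuot.epi (hG.2.2 n)

theorem acycOn_affine (G : ℕᵒᵖ ⥤ X.Modules) (hqc : ∀ n, (G.obj (op n)).IsQuasicoherent) (n : ℕ) :
    LimCoh25.AcycOn (X := X.toTopCat) X.affineOpens ((abSys G).obj (op n)) := fun _ hV i =>
  haveI := hqc n
  Cohom.subsingleton_ext_freeFun_of_isAffineOpen hV (G.obj (op n)) i

theorem epi_diff_abSys (G : ℕᵒᵖ ⥤ X.Modules) (hs : SurjOnAffines G) : Epi (LimCoh25.diff (abSys G)) :=
  LimCoh25.epi_diff (X := X.toTopCat) (abSys G) X.affineOpens X.isBasis_affineOpens fun V hV n => hs V hV n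

theorem bijective_pi_abSys (G : ℕᵒᵖ ⥤ X.Modules) (hqc : ∀ n, (G.obj (op n)).IsQuasicoherent)
    (P : CohTop.Ab X.toTopCat) (i : ℕ) :
    Function.Bijective (fun (x : Ext.{u} P (∏ᶜ fun n : ℕ => (abSys G).obj (op n)) i) k =>
      x.comp (Ext.mk₀ (Pi.π (fun n : ℕ => (abSys G).obj (op n)) k)) (add_zero i)) :=
  LimCoh25.bijective_pi_acycOn (X := X.toTopCat) X.affineOpens X.isBasis_affineOpens P i _
    fun n => acycOn_affine G hqc n

/-- The Milnor sequence for the maps out of a sheaf. -/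
theorem tower (G : ℕᵒᵖ ⥤ X.Modules) (hqc : ∀ n, (G.obj (op n)).IsQuasicoherent) (hs : SurjOnAffines G)
    (P : CohTop.Ab X.toTopCat) (i j : ℕ) (hij : j + 1 = i) :
    (∀ ξ : ∀ n : ℕ, extLev.{u} (abSys G) P i n, (∀ n, extMap (abSys G) P i n (ξ (n + 1)) = ξ n) →
        ∃ η : Ext.{u} P (Coh.toAb (limit G)) i, ∀ n, η.comp (Ext.mk₀ (limπ G n)) (add_zero i) = ξ n) ∧
    ∃ α : Formal2.limOne (extLev.{u} (abSys G) P j) (extMap (abSys G) P j) →+ Ext.{u} P (Coh.toAb (limit G)) i,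
      Function.Injective α ∧ ∀ η, η ∈ α.range ↔ ∀ n, η.comp (Ext.mk₀ (limπ G n)) (add_zero i) = 0 :=
  tower_iso (epi_diff_abSys G hs) (bijective_pi_abSys G hqc P) (limAbIso G) (limAbIso_π G) i j hij

theorem extMap_zero_surjective (G : ℕᵒᵖ ⥤ X.Modules) (hs : SurjOnAffines G) {U : X.Opens} (hU : IsAffineOpen U)
    (n : ℕ) : Function.Surjective (extMap.{u} (abSys G) (Cohom.freeFun.obj U) 0 n) := by
  intro y
  obtain ⟨φ, rfl⟩ := (Ext.mk₀_bijective _ _).2 y
  obtain ⟨s, hs'⟩ := hs U hU n (Cohom.sectionsEquiv U _ φ)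
  refine ⟨Ext.mk₀ ((Cohom.sectionsEquiv U _).symm s), (Ext.mk₀_comp_mk₀ _ _).trans (congrArg Ext.mk₀ ?_)⟩
  apply (Cohom.sectionsEquiv U _).injective
  rw [Cohom.sectionsEquiv_comp, Equiv.apply_symm_apply]
  exact hs'

/-- Positive degree classes of the limit over an affine open vanish. -/
theorem subsingleton_ext_affine (G : ℕᵒᵖ ⥤ X.Modules) (hqc : ∀ n, (G.obj (op n)).IsQuasicoherent)
    (hs : SurjOnAffines G) {U : X.Opens} (hU : IsAffineOpen U) (j : ℕ) :
    Subsingleton (Ext.{u} (Cohom.freeFun.obj U) (Coh.toAb (limit G)) (j + 1)) := by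
  have hv : ∀ (k : ℕ) (n : ℕ), Subsingleton (extLev.{u} (abSys G) (Cohom.freeFun.obj U) (k + 1) n) := fun k n =>
    haveI := hqc n
    Cohom.subsingleton_ext_freeFun_of_isAffineOpen hU (G.obj (op n)) k
  refine subsingleton_tower (epi_diff_abSys G hs) (bijective_pi_abSys G hqc _) (limAbIso G) (limAbIso_π G) j
    (hv j) fun n => ?_
  cases j with
  | zero => exact extMap_zero_surjective G hs hU n
  | succ j => exact fun y => ⟨0, @Subsingleton.elim _ (hv j n) _ _⟩

end GrothLib.FormalLim7
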