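import Groth.Agent.Lib.LimCoh25.ProdExt

/-!
# The exact sequence of a tower, for an object isomorphic to the limit
-/

set_option autoImplicit false
universe w v u

open CategoryTheory CategoryTheory.Limits Opposite Abelian

noncomputable section

namespace GrothLib.FormalLim7

variable {A : Type u} [Category.{v} A] [Abelian A] [HasExt.{w} A] [EnoughInjectives A] [HasProductsOfShape ℕ A]
  (F : ℕᵒᵖ ⥤ A) [HasLimit F] (X : A)

/-- The transition maps on `Ext`. -/
def extMap (i n : ℕ) : Ext X (F.obj (op (n + 1))) i →+ Ext X (F.obj (op n)) i :=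
  (Ext.mk₀ (F.map (homOfLE (Nat.le_succ n)).op)).postcomp X (add_zero i)

/-- The groups `Ext` of the levels. -/
abbrev extLev (i n : ℕ) : Type w := Ext X (F.obj (op n)) i

variable {F X} (hD : Epi (LimCoh25.diff F))
  (hbij : ∀ i : ℕ, Function.Bijective (fun (x : Ext X (∏ᶜ fun n : ℕ => F.obj (op n)) i) k =>
    x.comp (Ext.mk₀ (Pi.π (fun n : ℕ => F.obj (op n)) k)) (add_zero i)))
  {L : A} (c : L ≅ limit F) {q : ∀ n : ℕ, L ⟶ F.obj (op n)} (hq : ∀ n, c.hom ≫ limit.π F (op n) = q n)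

include hD hbij hq

/-- The exact sequence of a tower. -/
theorem tower_iso (i j : ℕ) (hij : j + 1 = i) :
    (∀ ξ : ∀ n : ℕ, extLev F X i n, (∀ n, extMap F X i n (ξ (n + 1)) = ξ n) →
        ∃ η : Ext X L i, ∀ n, η.comp (Ext.mk₀ (q n)) (add_zero i) = ξ n) ∧
    ∃ α : Formal2.limOne (extLev F X j) (extMap F X j) →+ Ext X L i,
      Function.Injective α ∧ ∀ η, η ∈ α.range ↔ ∀ n, η.comp (Ext.mk₀ (q n)) (add_zero i) = 0 := by
  obtain ⟨h1, ⟨e⟩⟩ := LimCoh25.tower_sequence F X hD hbij i j hij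
  let T : Ext X L i →+ Ext X (limit F) i := (Ext.mk₀ c.hom).postcomp X (add_zero i)
  let S : Ext X (limit F) i →+ Ext X L i := (Ext.mk₀ c.inv).postcomp X (add_zero i)
  have hST : ∀ η, S (T η) = η := fun η => by
    show (η.comp (Ext.mk₀ c.hom) (add_zero i)).comp (Ext.mk₀ c.inv) (add_zero i) = η
    rw [Ext.comp_assoc_of_second_deg_zero, Ext.mk₀_comp_mk₀, Iso.hom_inv_id, Ext.comp_mk₀_id]
  have hTS : ∀ η, T (S η) = η := fun η => by
    show (η.comp (Ext.mk₀ c.inv) (add_zero i)).comp (Ext.mk₀ c.hom) (add_zero i) = η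
    rw [Ext.comp_assoc_of_second_deg_zero, Ext.mk₀_comp_mk₀, Iso.inv_hom_id, Ext.comp_mk₀_id]
  have hπ : ∀ η n, (T η).comp (Ext.mk₀ (limit.π F (op n))) (add_zero i) =
      η.comp (Ext.mk₀ (q n)) (add_zero i) := fun η n => by
    show (η.comp (Ext.mk₀ c.hom) (add_zero i)).comp (Ext.mk₀ (limit.π F (op n))) (add_zero i) = _
    rw [Ext.comp_assoc_of_second_deg_zero, Ext.mk₀_comp_mk₀, hq]
  refine ⟨fun ξ hξ => ?_, S.comp ((AddSubgroup.subtype _).comp e.symm.toAddMonoidHom), ?_, fun η => ⟨?_, ?_⟩⟩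
  · obtain ⟨η, hη⟩ := h1 ξ hξ
    exact ⟨S η, fun n => by rw [← hπ, hTS]; exact hη n⟩
  · exact (Function.LeftInverse.injective hTS).comp (Subtype.val_injective.comp e.symm.injective)
  · rintro ⟨x, rfl⟩ n
    rw [← hπ]
    show (T (S (e.symm x).1)).comp (Ext.mk₀ (limit.π F (op n))) (add_zero i) = 0
    rw [hTS]
    exact congrFun (e.symm x).2 n
  · intro hη
    refine ⟨e ⟨T η, funext fun n => (hπ η n).trans (hη n)⟩, ?_⟩
    show S (e.symm (e _)).1 = η
    rw [e.symm_apply_apply]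
    exact hST η

include c in
/-- Vanishing of the classes of the limit. -/
theorem subsingleton_tower (j : ℕ) (hv : ∀ n, Subsingleton (extLev F X (j + 1) n))
    (hs : ∀ n, Function.Surjective (extMap F X j n)) : Subsingleton (Ext X L (j + 1)) := by
  obtain ⟨-, α, -, hr⟩ := tower_iso hD hbij c hq (j + 1) j rfl
  refine subsingleton_of_forall_eq 0 fun η => ?_
  obtain ⟨x, rfl⟩ := (hr η).2 fun n => @Subsingleton.elim _ (hv n) _ _
  obtain ⟨x, rfl⟩ := QuotientAddGroup.mk_surjective x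
  have hx : x ∈ (Formal2.towerDiff (extLev F X j) (extMap F X j)).range := by
    choose g hg using hs
    let a : ∀ n, extLev F X j n := fun n => Nat.rec 0 (fun k (ak : extLev F X j k) => g k (ak - x k)) n
    refine ⟨a, funext fun n => ?_⟩
    exact (congrArg (fun t => a n - t) (hg n _)).trans (sub_sub_cancel _ _)
  exact (congrArg α ((QuotientAddGroup.eq_zero_iff x).2 hx)).trans (map_zero α)

end GrothLib.FormalLim7
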