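import Groth.Agent.Lib.FormalLim7.LimQuot

/-!
# Systems with multiplication by an element factoring through the transition maps
-/

set_option autoImplicit false
set_option linter.style.haveILetI false
universe u

open CategoryTheory CategoryTheory.Limits AlgebraicGeometry Opposite TopologicalSpace

noncomputable section

namespace GrothLib.FormalLim7

open GrothLib.FormalFun (toSec)

variable {A : Type u} [CommRing A] {X : Scheme.{u}} [X.Over (Spec (CommRingCat.of A))] {f : A}
  {G : ℕᵒᵖ ⥤ X.Modules} (i : ∀ n, G.obj (op n) ⟶ G.obj (op (n + 1))) [∀ n, Mono (i n)]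
  (hi : ∀ n, G.map (homOfLE (Nat.le_succ n)).op ≫ i n = Formal.smulMod A (G.obj (op (n + 1))) f)
  (w : ∀ n, i n ≫ G.map (homOfLE (Nat.zero_le (n + 1))).op = 0)
  (hse : ∀ n, (ShortComplex.mk (i n) (G.map (homOfLE (Nat.zero_le (n + 1))).op) (w n)).ShortExact)

/-- The transition map. -/
abbrev tr (G : ℕᵒᵖ ⥤ X.Modules) (n : ℕ) : G.obj (op (n + 1)) ⟶ G.obj (op n) := G.map (homOfLE (Nat.le_succ n)).op

/-- The map to the first term. -/
abbrev toBot (G : ℕᵒᵖ ⥤ X.Modules) (n : ℕ) : G.obj (op n) ⟶ G.obj (op 0) := G.map (homOfLE (Nat.zero_le n)).op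

omit [X.Over (Spec (CommRingCat.of A))] in
theorem tr_toBot (n : ℕ) : tr G n ≫ toBot G n = toBot G (n + 1) := (G.map_comp _ _).symm

omit [X.Over (Spec (CommRingCat.of A))] in
theorem toBot_one : toBot G 1 = tr G 0 := rfl

include hi in
theorem inj_tr (n : ℕ) : i n ≫ tr G n = Formal.smulMod A (G.obj (op n)) f := by
  rw [← cancel_mono (i n), Category.assoc, hi n]
  exact (FormalSys.smulMod_naturality (i n) f).symm

include hi hse in
theorem epi_tr : ∀ n, Epi (tr G n)
  | 0 => (hse 0).epi_g
  | n + 1 => by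
    haveI := epi_tr n
    refine Preadditive.epi_of_cancel_zero _ fun {P} g hg => ?_
    have h1 : i n ≫ g = 0 := by
      rw [← cancel_epi (tr G n), ← Category.assoc, hi n, comp_zero, ← inj_tr i hi (n + 1), Category.assoc, hg,
        comp_zero]
    haveI := (hse n).epi_g
    obtain ⟨g', hg'⟩ := CokernelCofork.IsColimit.desc' (hse n).gIsCokernel g h1
    have h2 : toBot G (n + 1 + 1) ≫ g' = 0 := by
      rw [← tr_toBot (n + 1), Category.assoc, show toBot G (n + 1) ≫ g' = g from hg', hg]
    haveI := (hse (n + 1)).epi_g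
    have h3 : g' = 0 := (cancel_epi (toBot G (n + 1 + 1))).1 (h2.trans comp_zero.symm)
    rw [← show toBot G (n + 1) ≫ g' = g from hg', h3, comp_zero]

include hi w hse in
theorem smul_pow_eq_zero : ∀ n, Formal.smulMod A (G.obj (op n)) (f ^ (n + 1)) = 0
  | 0 => by
    haveI := epi_tr i hi w hse 0
    rw [zero_add, pow_one, ← cancel_epi (tr G 0), comp_zero, ← FormalSys.smulMod_naturality, ← hi 0, Category.assoc,
      show i 0 ≫ tr G 0 = 0 from w 0, comp_zero]
  | n + 1 => by
    rw [pow_succ, FormalSys.smulMod_mul, ← hi n, Category.assoc, ← FormalSys.smulMod_naturality,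
      smul_pow_eq_zero n, zero_comp, comp_zero]

include hi w hse in
theorem kernel_comp_eq_zero : ∀ (n : ℕ) {P : X.Modules} (g : G.obj (op (n + 1)) ⟶ P),
    Formal.smulMod A (G.obj (op (n + 1))) (f ^ (n + 1)) ≫ g = 0 → kernel.ι (tr G n) ≫ g = 0 := by
  intro n
  induction n with
  | zero =>
    intro P g hg
    haveI := (hse 0).mono_f
    obtain ⟨v, hv⟩ := KernelFork.IsLimit.lift' (hse 0).fIsKernel (kernel.ι (tr G 0)) (kernel.condition _)
    haveI := epi_tr i hi w hse 0
    have h1 : i 0 ≫ g = 0 := by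
      rw [← cancel_epi (tr G 0), ← Category.assoc, hi 0, comp_zero]
      rwa [pow_one] at hg
    rw [← show v ≫ i 0 = kernel.ι (tr G 0) from hv, Category.assoc, h1, comp_zero]
  | succ n ih =>
    intro P g hg
    obtain ⟨v, hv⟩ := KernelFork.IsLimit.lift' (hse (n + 1)).fIsKernel (kernel.ι (tr G (n + 1))) (by
      show kernel.ι (tr G (n + 1)) ≫ toBot G (n + 1 + 1) = 0
      rw [← tr_toBot (n + 1), kernel.condition_assoc, zero_comp])
    have hv' : v ≫ i (n + 1) = kernel.ι (tr G (n + 1)) := hv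
    have h1 : v ≫ tr G n = 0 := by
      rw [← cancel_mono (i n), Category.assoc, hi n, zero_comp, ← inj_tr i hi (n + 1), ← Category.assoc, hv',
        kernel.condition]
    haveI := epi_tr i hi w hse (n + 1)
    have h2 : Formal.smulMod A (G.obj (op (n + 1))) (f ^ (n + 1)) ≫ i (n + 1) ≫ g = 0 := by
      rw [← cancel_epi (tr G (n + 1)), comp_zero, FormalSys.smulMod_naturality_assoc, reassoc_of% hi (n + 1),
        ← Category.assoc, ← FormalSys.smulMod_mul, ← pow_succ, hg]
    rw [← hv', Category.assoc, ← kernel.lift_ι (tr G n) v h1, Category.assoc, ih _ h2, comp_zero]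

include hi w hse in
theorem isQCohFormal (hqc : ∀ n, (G.obj (op n)).IsQuasicoherent) :
    Formal2.IsQCohFormal (Ideal.span ({f} : Set A)) G := by
  have hk : ∀ n, Formal.KilledBy (Ideal.span ({f} : Set A) ^ (n + 1)) (G.obj (op n)) := by
    intro n a ha
    rw [Ideal.span_singleton_pow, Ideal.mem_span_singleton'] at ha
    obtain ⟨c, rfl⟩ := ha
    rw [FormalSys.smulMod_mul, smul_pow_eq_zero i hi w hse n, zero_comp]
  refine ⟨hqc, hk, fun n => ?_⟩
  haveI := epi_tr i hi w hse n
  let J : Ideal A := Ideal.span ({f} : Set A) ^ (n + 1)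
  let M := G.obj (op (n + 1))
  have hf : f ^ (n + 1) ∈ Ideal.span ({f} : Set A) ^ (n + 1) :=
    Ideal.pow_mem_pow (Ideal.mem_span_singleton_self f) (n + 1)
  have h1 : Formal.smulMod A M (f ^ (n + 1)) ≫ cokernel.π (Formal.smulFamily J M) = 0 :=
    (FormalSys.IsQuot.cokernelπ J M).comp_eq_zero _ hf
  have h0 : kernel.ι (tr G n) ≫ cokernel.π (Formal.smulFamily J M) = 0 :=
    kernel_comp_eq_zero i hi w hse n _ h1
  have hd : ∀ a ∈ J, Formal.smulMod A M a ≫ tr G n = 0 := fun a ha =>
    (FormalSys.smulMod_naturality (tr G n) a).trans ((congrArg (tr G n ≫ ·) (hk n a ha)).trans comp_zero)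
  exact @FormalSys.IsQuot.mk' A _ X _ M (G.obj (op n)) J (tr G n) _ hd
    ⟨Abelian.epiDesc (tr G n) _ h0, Abelian.comp_epiDesc _ _ _⟩

include hi w hse in
/-- The system comes from a module without torsion. -/
theorem exists_torsionFree (hqc : ∀ n, (G.obj (op n)).IsQuasicoherent) :
    ∃ F : X.Modules, Mono (Formal.smulMod A F f) ∧
      Nonempty (Formal.completion (Ideal.span ({f} : Set A)) F ≅ G) := by
  have hG := isQCohFormal i hi w hse hqc
  refine ⟨limit G, Preadditive.mono_of_cancel_zero _ fun {P} g hg => limit.hom_ext fun ⟨n⟩ => ?_,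
    FormalSys.exists_completion_iso (fun n => limit.π G (op n))
      (fun n => isQuot_limit_π ⟨{f}, by simp⟩ hG n) fun n => limit.w G _⟩
  rw [zero_comp, ← cancel_mono (i n), ← limit.w G (homOfLE (Nat.le_succ n)).op, zero_comp]
  simp only [Category.assoc]
  rw [hi n, ← FormalSys.smulMod_naturality, ← Category.assoc, hg, zero_comp]

end GrothLib.FormalLim7
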